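/-
Two commuting copies of SL₂ interchanged by an element squaring to their common involution: the common
involution is isolated.
-/
import Cfsg.Agent.Lib.Classical.SL2Involutions
import Cfsg.Prelude.Def_IsolatedElements
import Mathlib.GroupTheory.Index
import Mathlib.GroupTheory.OrderOfElement

set_option autoImplicit false

namespace Cfsg.Agent.SwapSL

variable {G : Type*} [Group G]

/-- What is used of the two factors. -/
structure Conf (L₁ L₂ : Subgroup G) (j n : G) : Prop where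
  hc : ∀ x ∈ L₁, ∀ y ∈ L₂, x * y = y * x
  jne : j ≠ 1
  jsq : j * j = 1
  jL₁ : j ∈ L₁
  inter : ∀ x, x ∈ L₁ → x ∈ L₂ → x = 1 ∨ x = j
  sqrt₁ : ∀ x ∈ L₁, x * x = 1 → x = 1 ∨ x = j
  conj₁ : ∀ x ∈ L₁, ∀ y ∈ L₁, x * x = j → y * y = j → ∃ h ∈ L₁, h * x * h⁻¹ = y
  anti₁ : ∀ x ∈ L₁, ∀ y ∈ L₁, x * x = j → y * x * y⁻¹ = x * j → y * y = j
  root₁ : ∃ a ∈ L₁, a * a = j
  central : ∀ y, y * j = j * y ↔ y ∈ L₁ ⊔ L₂ ∨ y * n⁻¹ ∈ L₁ ⊔ L₂
  nsq : n * n = j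
  nnot : n ∉ L₁ ⊔ L₂
  swap : ∀ x ∈ L₁, n * x * n⁻¹ ∈ L₂
  swap' : ∀ y ∈ L₂, n * y * n⁻¹ ∈ L₁

variable {L₁ L₂ : Subgroup G} {j n : G}

theorem mem_sup (hc : ∀ x ∈ L₁, ∀ y ∈ L₂, x * y = y * x) {y : G} (hy : y ∈ L₁ ⊔ L₂) :
    ∃ x₁ ∈ L₁, ∃ x₂ ∈ L₂, y = x₁ * x₂ := by
  have h : L₁ ≤ Subgroup.normalizer (L₂ : Set G) := fun x hx => by
    rw [Subgroup.mem_normalizer_iff]
    intro z
    constructor
    · intro hz; rw [hc x hx z hz, mul_inv_cancel_right]; exact hz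
    · intro hz
      have h1 := hc x hx _ hz
      have : x * z * x⁻¹ = z := by
        have h2 : x * (x * z * x⁻¹) = x * z := by rw [h1]; group
        exact mul_left_cancel h2
      rwa [this] at hz
  have := Subgroup.coe_mul_of_left_le_normalizer_right L₁ L₂ h
  rw [← SetLike.mem_coe, this] at hy
  obtain ⟨a, ha, b, hb, rfl⟩ := Set.mem_mul.1 hy
  exact ⟨a, ha, b, hb, rfl⟩

namespace Conf

variable (D : Conf L₁ L₂ j n)
include D

theorem j_left {x : G} (hx : x ∈ L₁) : x * j = j * x :=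
  (D.central x).2 (Or.inl (Subgroup.mem_sup_left hx))

theorem j_right {y : G} (hy : y ∈ L₂) : y * j = j * y :=
  (D.central y).2 (Or.inl (Subgroup.mem_sup_right hy))

theorem jL₂ : j ∈ L₂ := by
  have := D.swap j D.jL₁
  rwa [show n * j * n⁻¹ = j by rw [← D.nsq]; group] at this

theorem nj : n * j = j * n := by rw [← D.nsq, mul_assoc]

theorem phi_phi {x : G} (hx : x * j = j * x) : n * (n * x * n⁻¹) * n⁻¹ = x := by
  rw [show n * (n * x * n⁻¹) * n⁻¹ = (n * n) * x * (n * n)⁻¹ by group, D.nsq, ← hx, mul_inv_cancel_right]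

theorem phi_sq {x : G} (hx : x * x = j) : n * x * n⁻¹ * (n * x * n⁻¹) = j := by
  rw [show n * x * n⁻¹ * (n * x * n⁻¹) = n * (x * x) * n⁻¹ by group, hx, D.nj, mul_inv_cancel_right]

theorem inv_of_sq {x : G} (hx : x * x = j) : x⁻¹ = x * j :=
  inv_eq_of_mul_eq_one_right (by rw [← mul_assoc, hx, D.jsq])

theorem sqrt₂ {y : G} (hy : y ∈ L₂) (h : y * y = 1) : y = 1 ∨ y = j := by
  rcases D.sqrt₁ _ (D.swap' y hy) (by
    rw [show n * y * n⁻¹ * (n * y * n⁻¹) = n * (y * y) * n⁻¹ by group, h]; group) with e | e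
  · left
    have := D.phi_phi (D.j_right hy)
    rw [e] at this
    rw [← this]; group
  · right
    have := D.phi_phi (D.j_right hy)
    rw [e] at this
    rw [← this, D.nj, mul_inv_cancel_right]

theorem conj₂ {x y : G} (hx : x ∈ L₂) (hy : y ∈ L₂) (hxx : x * x = j) (hyy : y * y = j) :
    ∃ h ∈ L₂, h * x * h⁻¹ = y := by
  obtain ⟨h, hh, e⟩ := D.conj₁ _ (D.swap' x hx) _ (D.swap' y hy) (D.phi_sq hxx) (D.phi_sq hyy)
  refine ⟨n * h * n⁻¹, D.swap h hh, ?_⟩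
  calc n * h * n⁻¹ * x * (n * h * n⁻¹)⁻¹
      = n * h * n⁻¹ * (n * (n * x * n⁻¹) * n⁻¹) * (n * h * n⁻¹)⁻¹ := by rw [D.phi_phi (D.j_right hx)]
    _ = n * (h * (n * x * n⁻¹) * h⁻¹) * n⁻¹ := by group
    _ = y := by rw [e, D.phi_phi (D.j_right hy)]

theorem anti₂ {x y : G} (hx : x ∈ L₂) (hy : y ∈ L₂) (hxx : x * x = j) (h : y * x * y⁻¹ = x * j) :
    y * y = j := by
  have e := D.anti₁ _ (D.swap' x hx) _ (D.swap' y hy) (D.phi_sq hxx) (by
    rw [show n * y * n⁻¹ * (n * x * n⁻¹) * (n * y * n⁻¹)⁻¹ = n * (y * x * y⁻¹) * n⁻¹ by group, h]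
    rw [show n * (x * j) * n⁻¹ = n * x * n⁻¹ * (n * j * n⁻¹) by group, D.nj, mul_inv_cancel_right])
  have h2 := D.phi_sq e
  rwa [D.phi_phi (D.j_right hy)] at h2

/-- The products of two elements of order four are conjugate. -/
theorem exists_conj {x₁ x₂ y₁ y₂ : G} (hx₁ : x₁ ∈ L₁) (hx₂ : x₂ ∈ L₂) (hy₁ : y₁ ∈ L₁) (hy₂ : y₂ ∈ L₂)
    (e₁ : x₁ * x₁ = j) (e₂ : x₂ * x₂ = j) (f₁ : y₁ * y₁ = j) (f₂ : y₂ * y₂ = j) :
    ∃ c, c * j = j * c ∧ c * (x₁ * x₂) * c⁻¹ = y₁ * y₂ := by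
  obtain ⟨u, hu, hu'⟩ := D.conj₁ x₁ hx₁ y₁ hy₁ e₁ f₁
  obtain ⟨v, hv, hv'⟩ := D.conj₂ hx₂ hy₂ e₂ f₂
  refine ⟨u * v, (D.central _).2 (Or.inl (mul_mem (Subgroup.mem_sup_left hu) (Subgroup.mem_sup_right hv))), ?_⟩
  have a1 : v * x₁ = x₁ * v := (D.hc x₁ hx₁ v hv).symm
  have a2 : u⁻¹ * (v * x₂ * v⁻¹) = v * x₂ * v⁻¹ * u⁻¹ :=
    D.hc _ (inv_mem hu) _ (mul_mem (mul_mem hv hx₂) (inv_mem hv))
  calc u * v * (x₁ * x₂) * (u * v)⁻¹ = u * (v * x₁) * x₂ * v⁻¹ * u⁻¹ := by group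
    _ = u * x₁ * (v * x₂ * v⁻¹ * u⁻¹) := by rw [a1]; group
    _ = (u * x₁ * u⁻¹) * (v * x₂ * v⁻¹) := by rw [← a2]; group
    _ = y₁ * y₂ := by rw [hu', hv']

/-- An involution of the two factors other than the central one is a product of elements of order four. -/
theorem split_invol {y : G} (hy : y ∈ L₁ ⊔ L₂) (hy2 : y * y = 1) (hy1 : y ≠ 1) (hyj : y ≠ j) :
    ∃ x₁ ∈ L₁, ∃ x₂ ∈ L₂, y = x₁ * x₂ ∧ x₁ * x₁ = j ∧ x₂ * x₂ = j := by
  obtain ⟨x₁, h₁, x₂, h₂, rfl⟩ := mem_sup D.hc hy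
  have e : (x₁ * x₁) * (x₂ * x₂) = 1 := by
    rw [← hy2]
    calc x₁ * x₁ * (x₂ * x₂) = x₁ * (x₁ * x₂) * x₂ := by group
      _ = x₁ * (x₂ * x₁) * x₂ := congrArg (fun z => x₁ * z * x₂) (D.hc x₁ h₁ x₂ h₂)
      _ = x₁ * x₂ * (x₁ * x₂) := by group
  have e' : x₁ * x₁ = (x₂ * x₂)⁻¹ := eq_inv_of_mul_eq_one_left e
  rcases D.inter (x₁ * x₁) (mul_mem h₁ h₁) (e' ▸ inv_mem (mul_mem h₂ h₂)) with h | h
  · exfalso
    have h' : x₂ * x₂ = 1 := by rw [h, one_mul] at e; exact e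
    rcases D.sqrt₁ x₁ h₁ h with rfl | rfl <;> rcases D.sqrt₂ h₂ h' with rfl | rfl
    · exact hy1 (one_mul 1)
    · exact hyj (one_mul _)
    · exact hyj (mul_one _)
    · exact hy1 D.jsq
  · refine ⟨x₁, h₁, x₂, h₂, rfl, h, ?_⟩
    rw [h] at e
    calc x₂ * x₂ = j⁻¹ := eq_inv_of_mul_eq_one_right e
      _ = j := inv_eq_of_mul_eq_one_right D.jsq

/-- There are no involutions outside the two factors. -/
theorem sq_ne_one {y : G} (hy : y * j = j * y) (hyn : y ∉ L₁ ⊔ L₂) : y * y ≠ 1 := by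
  intro h
  obtain ⟨x₁, h₁, x₂, h₂, e⟩ := mem_sup D.hc (((D.central y).1 hy).resolve_left hyn)
  obtain rfl : y = x₁ * x₂ * n := by rw [← e, inv_mul_cancel_right]
  have hp : x₁ * (n * x₂ * n⁻¹) ∈ L₁ := mul_mem h₁ (D.swap' x₂ h₂)
  have hq : x₂ * (n * x₁ * n⁻¹) ∈ L₂ := mul_mem h₂ (D.swap x₁ h₁)
  have e2 : x₁ * (n * x₂ * n⁻¹) * (x₂ * (n * x₁ * n⁻¹)) * j = 1 := by
    rw [← h]
    calc x₁ * (n * x₂ * n⁻¹) * (x₂ * (n * x₁ * n⁻¹)) * j
        = x₁ * (n * x₂ * n⁻¹ * x₂) * (n * x₁ * n⁻¹) * (n * n) := by rw [D.nsq]; group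
      _ = x₁ * x₂ * n * (x₂ * x₁) * n := by rw [D.hc _ (D.swap' x₂ h₂) x₂ h₂]; group
      _ = x₁ * x₂ * n * (x₁ * x₂ * n) := by rw [← D.hc x₁ h₁ x₂ h₂]; group
  set p := x₁ * (n * x₂ * n⁻¹) with hpdef
  set q := x₂ * (n * x₁ * n⁻¹) with hqdef
  have hj : j⁻¹ = j := inv_eq_of_mul_eq_one_right D.jsq
  have e3 : p * q = j := by rw [eq_inv_of_mul_eq_one_left e2, hj]
  have hp2 : p ∈ L₂ := by
    rw [show p = j * q⁻¹ by rw [← e3]; group]
    exact mul_mem D.jL₂ (inv_mem hq)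
  have e4 : q = n * (x₁⁻¹ * p * x₁) * n⁻¹ := by
    calc q = n * (n * x₂ * n⁻¹) * n⁻¹ * (n * x₁ * n⁻¹) := by rw [D.phi_phi (D.j_right h₂)]
      _ = n * (x₁⁻¹ * p * x₁) * n⁻¹ := by rw [hpdef]; group
  rcases D.inter p hp hp2 with hp1 | hp1
  · rw [hp1] at e4 e3
    rw [one_mul] at e3
    exact D.jne (by rw [← e3, e4]; group)
  · rw [hp1] at e4 e3
    have : q = j := by
      rw [e4, show x₁⁻¹ * j * x₁ = j by rw [mul_assoc, ← D.j_left h₁]; group, D.nj, mul_inv_cancel_right]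
    rw [this, D.jsq] at e3
    exact D.jne e3.symm

variable [Finite G]

/-- The central involution is isolated. -/
theorem isolated : Cfsg.IsIsolated j := by
  obtain ⟨a, ha, haj⟩ := D.root₁
  set b := n * a * n⁻¹ with hb
  have hbL : b ∈ L₂ := D.swap a ha
  have hbj : b * b = j := D.phi_sq haj
  set t := a * b with ht
  have hab : a * b = b * a := D.hc a ha b hbL
  have htj : t * j = j * t :=
    (D.central t).2 (Or.inl (mul_mem (Subgroup.mem_sup_left ha) (Subgroup.mem_sup_right hbL)))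
  have key : ∀ v : G, v * j = j * v → v * v = 1 → v ≠ 1 → v ≠ j → ∃ c, c * j = j * c ∧ c * v * c⁻¹ = t := by
    intro v hv hv2 hv1 hvj
    have hvL : v ∈ L₁ ⊔ L₂ := by
      by_contra h
      exact D.sq_ne_one hv h hv2
    obtain ⟨x₁, h₁, x₂, h₂, rfl, e₁, e₂⟩ := D.split_invol hvL hv2 hv1 hvj
    exact D.exists_conj h₁ h₂ ha hbL e₁ e₂ haj hbj
  intro g hg
  by_contra hne
  have hsq : ∀ x : G, x * j * x⁻¹ * (x * j * x⁻¹) = 1 := fun x => by
    rw [show x * j * x⁻¹ * (x * j * x⁻¹) = x * (j * j) * x⁻¹ by group, D.jsq]; group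
  have hne1 : ∀ x : G, x * j * x⁻¹ ≠ 1 := fun x h => D.jne (by
    have : j = x⁻¹ * (x * j * x⁻¹) * x := by group
    rw [this, h]; group)
  obtain ⟨c, hcj, hc⟩ := key _ hg.symm.eq (hsq g) (hne1 g) hne
  -- a conjugate equal to `t`
  set k := c * g with hk
  have hkt : k * j * k⁻¹ = t := by rw [← hc, hk]; group
  have htne : t ≠ j := fun h => hne (by
    have e := hc.trans h
    have : g * j * g⁻¹ = c⁻¹ * (c * (g * j * g⁻¹) * c⁻¹) * c := by group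
    rw [this, e, mul_assoc, ← hcj]; group)
  -- swap `j` and `t`
  set u := k⁻¹ * j * k with hu
  have huj : u * j = j * u := by
    rw [hu]
    have : k⁻¹ * j * k * j = k⁻¹ * (j * (k * j * k⁻¹)) * k := by group
    rw [this, hkt, ← htj, ← hkt]; group
  obtain ⟨d, hdj, hd⟩ := key u huj (by simpa [hu] using hsq k⁻¹) (by simpa [hu] using hne1 k⁻¹) (by
    intro h
    apply htne
    rw [← hkt]
    conv_lhs => rw [show j = u from h.symm]
    rw [hu]; group)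
  set h := k * d⁻¹ with hh
  have hjt : h * j * h⁻¹ = t := by
    rw [← hkt, hh, show k * d⁻¹ * j * (k * d⁻¹)⁻¹ = k * (d⁻¹ * (j * d)) * k⁻¹ by group, ← hdj]
    group
  have htj' : h * t * h⁻¹ = j := by
    rw [← hd, hh, hu]; group
  -- the common centraliser
  let X : Set G := {y | y * j = j * y ∧ y * t = t * y}
  have hX : ∀ y, y ∈ X → h * y * h⁻¹ ∈ X := fun y hy => by
    constructor
    · rw [← htj', show h * y * h⁻¹ * (h * t * h⁻¹) = h * (y * t) * h⁻¹ by group, hy.2]; group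
    · rw [← hjt, show h * y * h⁻¹ * (h * j * h⁻¹) = h * (y * j) * h⁻¹ by group, hy.1]; group
  have haX : a ∈ X := ⟨D.j_left ha, by rw [ht, mul_assoc, ← hab]⟩
  have hnX : n ∈ X := ⟨D.nj, by
    rw [ht]
    calc n * (a * b) = (n * a * n⁻¹) * (n * b * n⁻¹) * n := by group
      _ = a * b * n := by rw [← hb, D.phi_phi (D.j_left ha), hab]⟩
  obtain ⟨w, hw, hwa⟩ := D.conj₁ a ha (a * j) (mul_mem ha D.jL₁) haj (by
    rw [mul_assoc, ← mul_assoc j a j, ← D.j_left ha, mul_assoc, D.jsq, mul_one, haj])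
  set w' := n * w * n⁻¹ with hw'
  have hwb : w' * b * w'⁻¹ = b * j := by
    rw [hw', hb, show n * w * n⁻¹ * (n * a * n⁻¹) * (n * w * n⁻¹)⁻¹ = n * (w * a * w⁻¹) * n⁻¹ by group, hwa,
      show n * (a * j) * n⁻¹ = n * a * n⁻¹ * (n * j * n⁻¹) by group, D.nj, mul_inv_cancel_right]
  have hww : w * w = j := D.anti₁ a ha w hw haj hwa
  have hw'L : w' ∈ L₂ := D.swap w hw
  have hww' : w' * w' = j := D.anti₂ hbL hw'L hbj hwb
  -- the shape of the elements in the two factors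
  have shape : ∀ y ∈ L₁ ⊔ L₂, y * t = t * y → ∃ x₁ ∈ L₁, ∃ x₂ ∈ L₂, y = x₁ * x₂ ∧
      ((x₁ * a * x₁⁻¹ = a ∧ x₂ * b * x₂⁻¹ = b) ∨ (x₁ * a * x₁⁻¹ = a * j ∧ x₂ * b * x₂⁻¹ = b * j)) := by
    intro y hy hyt
    obtain ⟨x₁, h₁, x₂, h₂, rfl⟩ := mem_sup D.hc hy
    refine ⟨x₁, h₁, x₂, h₂, rfl, ?_⟩
    set P := x₁ * a * x₁⁻¹ with hP
    set Q := x₂ * b * x₂⁻¹ with hQ
    have e : P * Q = a * b := by
      have a1 : x₂ * a = a * x₂ := (D.hc a ha x₂ h₂).symm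
      have a2 : x₁⁻¹ * Q = Q * x₁⁻¹ := D.hc _ (inv_mem h₁) _ (mul_mem (mul_mem h₂ hbL) (inv_mem h₂))
      calc P * Q = x₁ * a * (x₁⁻¹ * Q) := by rw [hP]; group
        _ = x₁ * a * (x₂ * b * x₂⁻¹) * x₁⁻¹ := by rw [a2, hQ]; group
        _ = x₁ * (x₂ * a) * b * x₂⁻¹ * x₁⁻¹ := by rw [a1]; group
        _ = x₁ * x₂ * t * (x₁ * x₂)⁻¹ := by rw [ht]; group
        _ = a * b := by rw [hyt, ht]; group
    have e2 : a⁻¹ * P = b * Q⁻¹ := by
      calc a⁻¹ * P = a⁻¹ * (P * Q) * Q⁻¹ := by group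
        _ = b * Q⁻¹ := by rw [e]; group
    rcases D.inter (a⁻¹ * P) (mul_mem (inv_mem ha) (mul_mem (mul_mem h₁ ha) (inv_mem h₁)))
      (e2 ▸ mul_mem hbL (inv_mem (mul_mem (mul_mem h₂ hbL) (inv_mem h₂)))) with hh1 | hh1
    · exact Or.inl ⟨(inv_mul_eq_one.1 hh1).symm, (mul_inv_eq_one.1 (e2 ▸ hh1)).symm⟩
    · refine Or.inr ⟨inv_mul_eq_iff_eq_mul.1 hh1, ?_⟩
      have h3 := mul_inv_eq_iff_eq_mul.1 (e2 ▸ hh1)
      calc Q = j * (j * Q) := by rw [← mul_assoc, D.jsq, one_mul]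
        _ = b * j := by rw [← h3, ← D.j_right hbL]
  let I : Set G := {y | y ∈ X ∧ y * y = 1}
  have hI : ∀ y, y ∈ I → y ∈ L₁ ⊔ L₂ := fun y hy => by
    by_contra hn
    exact D.sq_ne_one hy.1.1 hn hy.2
  have hwI : w * w' ∈ I := by
    refine ⟨⟨(D.central _).2 (Or.inl (mul_mem (Subgroup.mem_sup_left hw) (Subgroup.mem_sup_right hw'L))), ?_⟩, ?_⟩
    · rw [ht]
      calc w * w' * (a * b) = w * (w' * a) * b := by group
        _ = (w * a * w⁻¹) * (w * (w' * b)) := by rw [← D.hc a ha w' hw'L]; group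
        _ = (w * a * w⁻¹) * (w * (w' * b * w'⁻¹)) * w' := by group
        _ = (w * a * w⁻¹) * ((w' * b * w'⁻¹) * w) * w' := by
          rw [D.hc w hw _ (mul_mem (mul_mem hw'L hbL) (inv_mem hw'L))]
        _ = a * (j * b) * j * w * w' := by rw [hwa, hwb]; group
        _ = a * b * (j * j) * w * w' := by rw [← D.j_right hbL]; group
        _ = a * b * (w * w') := by rw [D.jsq]; group
    · calc w * w' * (w * w') = w * (w' * w) * w' := by group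
        _ = (w * w) * (w' * w') := by rw [← D.hc w hw w' hw'L]; group
        _ = 1 := by rw [hww, hww', D.jsq]
  have gen : ∀ y ∈ X, y ∈ L₁ ⊔ L₂ → y ∈ Subgroup.closure I := by
    intro y hy hyL
    obtain ⟨x₁, h₁, x₂, h₂, rfl, h3 | h3⟩ := shape y hyL hy.2
    · have hm : x₁ * x₂ * (w * w') ∈ I := by
        refine ⟨⟨?_, ?_⟩, ?_⟩
        · rw [mul_assoc, hwI.1.1, ← mul_assoc, hy.1]; group
        · rw [mul_assoc, hwI.1.2, ← mul_assoc, hy.2]; group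
        · have e : x₁ * x₂ * (w * w') = (x₁ * w) * (x₂ * w') := by
            calc x₁ * x₂ * (w * w') = x₁ * (x₂ * w) * w' := by group
              _ = x₁ * w * (x₂ * w') := by rw [← D.hc w hw x₂ h₂]; group
          have q1 : (x₁ * w) * (x₁ * w) = j := D.anti₁ a ha _ (mul_mem h₁ hw) haj (by
            rw [show x₁ * w * a * (x₁ * w)⁻¹ = x₁ * (w * a * w⁻¹) * x₁⁻¹ by group, hwa,
              show x₁ * (a * j) * x₁⁻¹ = x₁ * a * x₁⁻¹ * (x₁ * j * x₁⁻¹) by group, h3.1, D.j_left h₁,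
              mul_inv_cancel_right])
          have q2 : (x₂ * w') * (x₂ * w') = j := D.anti₂ hbL (mul_mem h₂ hw'L) hbj (by
            rw [show x₂ * w' * b * (x₂ * w')⁻¹ = x₂ * (w' * b * w'⁻¹) * x₂⁻¹ by group, hwb,
              show x₂ * (b * j) * x₂⁻¹ = x₂ * b * x₂⁻¹ * (x₂ * j * x₂⁻¹) by group, h3.2, D.j_right h₂,
              mul_inv_cancel_right])
          rw [e]
          calc x₁ * w * (x₂ * w') * (x₁ * w * (x₂ * w'))
              = x₁ * w * ((x₂ * w') * (x₁ * w)) * (x₂ * w') := by group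
            _ = (x₁ * w * (x₁ * w)) * ((x₂ * w') * (x₂ * w')) := by
              rw [← D.hc _ (mul_mem h₁ hw) _ (mul_mem h₂ hw'L)]; group
            _ = 1 := by rw [q1, q2, D.jsq]
      have := mul_mem (Subgroup.subset_closure hm) (inv_mem (Subgroup.subset_closure (k := I) hwI))
      rwa [mul_inv_cancel_right] at this
    · refine Subgroup.subset_closure ⟨hy, ?_⟩
      calc x₁ * x₂ * (x₁ * x₂) = x₁ * (x₂ * x₁) * x₂ := by group
        _ = (x₁ * x₁) * (x₂ * x₂) := by rw [← D.hc x₁ h₁ x₂ h₂]; group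
        _ = 1 := by rw [D.anti₁ a ha x₁ h₁ haj h3.1, D.anti₂ hbL h₂ hbj h3.2, D.jsq]
  have inv' : ∀ y ∈ X, y ∈ L₁ ⊔ L₂ → h * y * h⁻¹ ∈ L₁ ⊔ L₂ := by
    intro y hy hyL
    have : Subgroup.closure I ≤ (L₁ ⊔ L₂).comap (MulAut.conj h).toMonoidHom :=
      (Subgroup.closure_le _).2 fun z hz => by
        rw [SetLike.mem_coe, Subgroup.mem_comap]
        exact hI _ ⟨hX z hz.1, by
          rw [show (MulAut.conj h).toMonoidHom z = h * z * h⁻¹ from rfl,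
            show h * z * h⁻¹ * (h * z * h⁻¹) = h * (z * z) * h⁻¹ by group, hz.2]; group⟩
    exact this (gen y hy hyL)
  -- counting square roots
  let T : G → Set G := fun v => {y | y ∈ X ∧ y ∉ L₁ ⊔ L₂ ∧ y * y = v}
  have hpre : ∀ y ∈ X, y ∉ L₁ ⊔ L₂ → h⁻¹ * y * h ∈ X ∧ h⁻¹ * y * h ∉ L₁ ⊔ L₂ := by
    intro y hy hyn
    have hm : h⁻¹ * y * h ∈ X := by
      constructor
      · rw [show j = h⁻¹ * t * h by rw [← hjt]; group,
          show h⁻¹ * y * h * (h⁻¹ * t * h) = h⁻¹ * (y * t) * h by group, hy.2]; group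
      · rw [show t = h⁻¹ * j * h by rw [← htj']; group,
          show h⁻¹ * y * h * (h⁻¹ * j * h) = h⁻¹ * (y * j) * h by group, hy.1]; group
    refine ⟨hm, fun hL => hyn ?_⟩
    have := inv' _ hm hL
    rwa [show h * (h⁻¹ * y * h) * h⁻¹ = y by group] at this
  have hle : (T j).ncard ≤ (T t).ncard := by
    refine Set.ncard_le_ncard_of_injOn (fun y => h⁻¹ * y * h) (fun y hy => ?_) (fun y _ z _ e => ?_) (Set.toFinite _)
    · refine ⟨(hpre y hy.1 hy.2.1).1, (hpre y hy.1 hy.2.1).2, ?_⟩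
      show h⁻¹ * y * h * (h⁻¹ * y * h) = t
      rw [show h⁻¹ * y * h * (h⁻¹ * y * h) = h⁻¹ * (y * y) * h by group, hy.2.2, ← htj']; group
    · simpa using e
  have hsub : (fun y => y * a⁻¹) '' T t ⊆ T j \ {n} := by
    rintro _ ⟨y, ⟨hyX, hyn, hyy⟩, rfl⟩
    have hainv : a⁻¹ * j = j * a⁻¹ := D.j_left (inv_mem ha)
    have hXm : y * a⁻¹ ∈ X := by
      constructor
      · rw [mul_assoc, hainv, ← mul_assoc, hyX.1, mul_assoc]
      · rw [mul_assoc, show a⁻¹ * t = t * a⁻¹ by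
          rw [eq_mul_inv_iff_mul_eq, mul_assoc, ← haX.2]; group, ← mul_assoc, hyX.2, mul_assoc]
    have hnL : y * a⁻¹ ∉ L₁ ⊔ L₂ := fun hh' => hyn (by
      have := mul_mem hh' (Subgroup.mem_sup_left (T := L₂) ha)
      rwa [inv_mul_cancel_right] at this)
    -- the inverse of `y`
    have hi : y⁻¹ * j = j * y⁻¹ := by rw [eq_mul_inv_iff_mul_eq, mul_assoc, ← hyX.1]; group
    have hyi : y⁻¹ * n⁻¹ ∈ L₁ ⊔ L₂ :=
      ((D.central _).1 hi).resolve_left fun hh' => hyn (by simpa using inv_mem hh')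
    set m := y⁻¹ * n⁻¹ with hm
    have hmt : m * t = t * m := by
      have h1 : y⁻¹ * t = t * y⁻¹ := by rw [eq_mul_inv_iff_mul_eq, mul_assoc, ← hyX.2]; group
      have h2 : n⁻¹ * t = t * n⁻¹ := by rw [eq_mul_inv_iff_mul_eq, mul_assoc, ← hnX.2]; group
      rw [hm, mul_assoc, h2, ← mul_assoc, h1, mul_assoc]
    obtain ⟨x₁, h₁, x₂, h₂, e, h3⟩ := shape m hyi hmt
    have hya : y⁻¹ * a * y = b ∨ y⁻¹ * a * y = b * j := by
      have e1 : y⁻¹ * a * y = m * b * m⁻¹ := by rw [hm, hb]; group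
      have e2 : m * b * m⁻¹ = x₂ * b * x₂⁻¹ := by
        rw [e]
        calc x₁ * x₂ * b * (x₁ * x₂)⁻¹ = x₁ * (x₂ * b * x₂⁻¹) * x₁⁻¹ := by group
          _ = _ := by rw [D.hc _ h₁ _ (mul_mem (mul_mem h₂ hbL) (inv_mem h₂))]; group
      rcases h3 with h3 | h3
      · exact Or.inl (by rw [e1, e2, h3.2])
      · exact Or.inr (by rw [e1, e2, h3.2])
    have e4 : y * a⁻¹ * (y * a⁻¹) = t * (y⁻¹ * a * y)⁻¹ * a⁻¹ := by rw [← hyy]; group
    have hsq2 : y * a⁻¹ * (y * a⁻¹) = j := by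
      rcases hya with e5 | e5
      · exfalso
        apply D.sq_ne_one hXm.1 hnL
        rw [e4, e5, ht]; group
      · rw [e4, e5, ht]
        calc a * b * (b * j)⁻¹ * a⁻¹ = a * b * j⁻¹ * b⁻¹ * a⁻¹ := by group
          _ = a * (b * j) * b⁻¹ * a⁻¹ := by rw [inv_eq_of_mul_eq_one_right D.jsq]; group
          _ = a * j * a⁻¹ := by rw [D.j_right hbL]; group
          _ = j := by rw [D.j_left ha]; group
    refine ⟨⟨hXm, hnL, hsq2⟩, fun e5 => ?_⟩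
    have e6 : y = n * a := by rw [← (e5 : y * a⁻¹ = n), inv_mul_cancel_right]
    have : y * y = j * t := by
      rw [e6, ht, hb]
      calc n * a * (n * a) = (n * a * n⁻¹) * (n * n) * a := by group
        _ = (n * a * n⁻¹) * (j * a) := by rw [D.nsq]; group
        _ = (n * a * n⁻¹) * a * j := by rw [← D.j_left ha]; group
        _ = a * (n * a * n⁻¹) * j := by rw [← D.hc a ha _ (D.swap a ha)]
        _ = j * (a * (n * a * n⁻¹)) := by rw [← hb, ← ht, htj]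
    exact D.jne (mul_eq_right.1 (this.symm.trans hyy))
  have hn : n ∈ T j := ⟨hnX, D.nnot, D.nsq⟩
  have h1 : (T t).ncard ≤ (T j \ {n}).ncard := by
    rw [← Set.ncard_image_of_injective (T t) (mul_left_injective a⁻¹)]
    exact Set.ncard_le_ncard hsub (Set.toFinite _)
  have h2 : (T j \ {n}).ncard < (T j).ncard := Set.ncard_sdiff_singleton_lt_of_mem hn (Set.toFinite _)
  omega

end Conf

/-- Elements of SL₂ of trace zero in the form used. -/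
theorem sl_facts {F : Type*} [Field F] [Finite F] (h2 : (2 : F) ≠ 0) :
    let S := Matrix.SpecialLinearGroup (Fin 2) F
    (∀ x y : S, x * x = SL2Inv.negOne → y * y = SL2Inv.negOne → ∃ h : S, h * x * h⁻¹ = y) ∧
      (∀ x y : S, x * x = SL2Inv.negOne → y * x * y⁻¹ = x * SL2Inv.negOne → y * y = SL2Inv.negOne) := by
  intro S
  refine ⟨fun x y hx hy => ?_, fun x y hx hy => ?_⟩
  · obtain ⟨g, rfl⟩ := SL2Inv.exists_conj h2 x ((SL2Inv.mul_self_eq_negOne_iff x).1 hx)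
    obtain ⟨k, rfl⟩ := SL2Inv.exists_conj h2 y ((SL2Inv.mul_self_eq_negOne_iff y).1 hy)
    exact ⟨k * g⁻¹, by group⟩
  · refine (SL2Inv.mul_self_eq_negOne_iff y).2 ?_
    have e : x * y * x⁻¹ = SL2Inv.negOne * y := by
      have h1 : y * x = SL2Inv.negOne * (x * y) := by
        rw [mul_inv_eq_iff_eq_mul.1 hy, ← mul_assoc, SL2Inv.negOne_comm x]
      rw [mul_inv_eq_iff_eq_mul, mul_assoc, h1, ← mul_assoc, SL2Inv.negOne_mul_self, one_mul]
    have ht := congrArg (fun z : S => z.1.trace) e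
    rw [SL2Inv.trace_conj, SL2Inv.trace_negOne_mul] at ht
    have : (2 : F) * y.1.trace = 0 := by linear_combination ht
    exact (mul_eq_zero.1 this).resolve_left h2

end Cfsg.Agent.SwapSL
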